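import Groth.Prelude.Def_W4c3ghconstell
import Groth.Agent.ComodLib.Coalg
import Mathlib.Analysis.Normed.Group.InfiniteSum

/-! Isotypic decomposition and weights of equivariant modules. -/

universe u v w w'

open TensorProduct W4c3ghconstell
open Groth.Agent.ComodLib (slice actF coefFun)

namespace Groth.Agent.GHConst

variable {k : Type u} [Field k] {A : Type v} [CommRing A] [HopfAlgebra k A]
variable {M : Type w'} [AddCommGroup M] [Module k M] [HopfRep.Comod k A M]

theorem simple_simpSub (D : SimpSub k A) : ComodLib.IsSimpleSubcoalg k A D.1 := D.2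

theorem mem_isoComp_iff (D : Submodule k A) (v : M) :
    v ∈ isoComp M D ↔ ∀ f : M →ₗ[k] k, coefFun (C := A) f v ∈ D := by
  rw [isoComp, Submodule.mem_comap, ComodLib.mem_range_lTensor_subtype_iff]
  rfl

theorem isSubcomod_isoComp (D : SimpSub k A) :
    HopfRep.IsSubcomod (k := k) (A := A) (isoComp M D.1) := by
  refine ComodLib.isSubcomod_iff_actF.mpr fun φ v hv => ?_
  rw [mem_isoComp_iff] at hv ⊢
  intro f
  rw [ComodLib.comodHom_actF (ComodLib.isComodHom_coefFun f)]
  exact ComodLib.subcomod_actF_mem ((ComodLib.isSubcoalg_iff _).mp (simple_simpSub D).2.1).1 φ (hv f)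

theorem actF_congr_isoComp (D : Submodule k A) {v : M} (hv : v ∈ isoComp M D) {φ ψ : A →ₗ[k] k}
    (h : φ ∘ₗ D.subtype = ψ ∘ₗ D.subtype) : actF φ v = actF ψ v := by
  obtain ⟨y, hy⟩ := hv
  rw [ComodLib.actF_apply, ComodLib.actF_apply, ← hy, ComodLib.slice_lTensor, ComodLib.slice_lTensor, h]

theorem exists_projection (D : SimpSub k A) :
    ∃ φ : A →ₗ[k] k, (∀ v ∈ isoComp M D.1, actF φ v = v) ∧
      ∀ E : SimpSub k A, E ≠ D → ∀ v ∈ isoComp M E.1, actF φ v = 0 := by
  classical
  let Q : Submodule k A := ⨆ (E : SimpSub k A) (_ : E ≠ D), E.1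
  have hdis : Disjoint D.1 Q :=
    ComodLib.iSupIndep_simpleSubcoalg (D := fun E : SimpSub k A => E.1) (fun E => simple_simpSub E)
      (fun _ _ h => Subtype.ext h) D
  have hinj : Function.Injective (Q.mkQ ∘ₗ D.1.subtype) := by
    rw [← LinearMap.ker_eq_bot, LinearMap.ker_comp, Submodule.ker_mkQ]
    rw [Submodule.eq_bot_iff]
    exact fun x hx => Subtype.ext (Submodule.disjoint_def.mp hdis x.1 x.2 hx)
  obtain ⟨ψ, hψ⟩ := LinearMap.dualMap_surjective_of_injective hinj
    ((Coalgebra.counit (R := k) (A := A)) ∘ₗ D.1.subtype)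
  refine ⟨ψ ∘ₗ Q.mkQ, fun v hv => ?_, fun E hE v hv => ?_⟩
  · rw [actF_congr_isoComp D.1 hv (ψ := Coalgebra.counit (R := k) (A := A)) ?_, ComodLib.actF_counit]
    rw [← hψ]; rfl
  · rw [actF_congr_isoComp E.1 hv (ψ := 0) ?_, ComodLib.actF_zero, LinearMap.zero_apply]
    refine LinearMap.ext fun e => ?_
    have : Q.mkQ e.1 = 0 := (Submodule.Quotient.mk_eq_zero Q).mpr
      (Submodule.mem_iSup_of_mem E (Submodule.mem_iSup_of_mem hE e.2))
    simp only [LinearMap.comp_apply, Submodule.subtype_apply, this, map_zero, LinearMap.zero_apply]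

theorem exists_inf_isoComp_ne_bot (htop : (⨆ D : SimpSub k A, isoComp M D.1) = ⊤) {N : Submodule k M}
    (hN : HopfRep.IsSubcomod (k := k) (A := A) N) (hne : N ≠ ⊥) :
    ∃ D : SimpSub k A, N ⊓ isoComp M D.1 ≠ ⊥ := by
  by_contra hcon
  push Not at hcon
  apply hne
  rw [eq_bot_iff]
  intro v hv
  have key : ∀ D : SimpSub k A, ∀ φ : A →ₗ[k] k, actF φ v ∈ isoComp M D.1 → actF φ v = 0 := by
    intro D φ hm
    have := hcon D
    rw [Submodule.eq_bot_iff] at this
    exact this _ ⟨ComodLib.subcomod_actF_mem hN φ hv, hm⟩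
  obtain ⟨f, hf, hsum⟩ := (Submodule.mem_iSup_iff_exists_finsupp _ v).mp (htop ▸ Submodule.mem_top)
  have hzero : ∀ D, f D = 0 := by
    intro D
    obtain ⟨φ, h1, h2⟩ := exists_projection (M := M) D
    have e : actF φ v = f D := by
      rw [← hsum, Finsupp.sum, map_sum, Finset.sum_eq_single D]
      · exact h1 _ (hf D)
      · exact fun E _ hE => h2 E hE _ (hf E)
      · intro h
        rw [Finsupp.notMem_support_iff.mp h, map_zero]
    rw [← e]
    exact key D φ (e ▸ hf D)
  rw [Submodule.mem_bot, ← hsum]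
  exact Finset.sum_eq_zero fun D _ => hzero D

section Mod

variable {R : Type w} [CommRing R] [Algebra k R] [HopfRep.Comod k A R]
variable [Module R M] [IsScalarTower k R M] [TameAct.IsHopfMod k A R M]

theorem hmSMul_mem_range (W : Submodule R M) (p : R ⊗[k] A) {z : M ⊗[k] A}
    (hz : z ∈ LinearMap.range ((W.restrictScalars k).subtype.rTensor A)) :
    TameAct.hmSMul k A R M p z ∈ LinearMap.range ((W.restrictScalars k).subtype.rTensor A) := by
  obtain ⟨y, rfl⟩ := hz
  induction y using TensorProduct.induction_on with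
  | zero => simp
  | add a b ha hb => rw [map_add, map_add]; exact add_mem ha hb
  | tmul x a =>
    induction p using TensorProduct.induction_on with
    | zero => simp
    | add c d hc hd => rw [map_add, LinearMap.add_apply]; exact add_mem hc hd
    | tmul r c =>
      rw [LinearMap.rTensor_tmul, TameAct.hmSMul_tmul]
      exact ⟨(⟨r • x.1, W.smul_mem r x.2⟩ : W.restrictScalars k) ⊗ₜ (c * a), by simp⟩

variable (k A)

theorem isSubcomod_span {S : Set M}
    (hS : ∀ s ∈ S, HopfRep.Comod.coact (k := k) (A := A) s ∈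
      LinearMap.range (((Submodule.span R S).restrictScalars k).subtype.rTensor A)) :
    HopfRep.IsSubcomod (k := k) (A := A) ((Submodule.span R S).restrictScalars k) := by
  intro w hw
  have hw' : w ∈ Submodule.span R S := hw
  induction hw' using Submodule.span_induction with
  | mem x hx => exact hS x hx
  | zero => simp
  | add x y hx hy ihx ihy => rw [map_add]; exact add_mem (ihx hx) (ihy hy)
  | smul r x hx ih =>
    rw [TameAct.IsHopfMod.coact_smul (B := R)]
    exact hmSMul_mem_range _ _ (ih hx)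

theorem isSubcomod_genIn (S : Set (SimpSub k A)) (N : Submodule R M)
    (hN : HopfRep.IsSubcomod (k := k) (A := A) (N.restrictScalars k)) :
    HopfRep.IsSubcomod (k := k) (A := A) ((genIn k A R M S N).restrictScalars k) := by
  refine isSubcomod_span k A fun s hs => ?_
  obtain ⟨D, hD, hs⟩ := Set.mem_iUnion₂.mp hs
  have h := ComodLib.isSubcomod_inf hN (isSubcomod_isoComp (M := M) D) s hs
  have hle : N.restrictScalars k ⊓ isoComp M D.1 ≤
      (Submodule.span R (⋃ E ∈ S, ((N.restrictScalars k ⊓ isoComp M E.1 : Submodule k M) : Set M))).restrictScalars k :=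
    fun x hx => Submodule.subset_span (Set.mem_iUnion₂.mpr ⟨D, hD, hx⟩)
  obtain ⟨y, hy⟩ := h
  exact ⟨(Submodule.inclusion hle).rTensor A y, by
    rw [← LinearMap.comp_apply, ← LinearMap.rTensor_comp, Submodule.subtype_comp_inclusion]; exact hy⟩

omit [TameAct.IsHopfMod k A R M] [HopfRep.Comod k A R] in
theorem genIn_le (S : Set (SimpSub k A)) (N : Submodule R M) : genIn k A R M S N ≤ N :=
  Submodule.span_le.mpr fun _ hx => by
    obtain ⟨D, -, hx⟩ := Set.mem_iUnion₂.mp hx
    exact hx.1

omit [TameAct.IsHopfMod k A R M] [HopfRep.Comod k A R] in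
theorem inf_le_genIn {S : Set (SimpSub k A)} (N : Submodule R M) {D : SimpSub k A} (hD : D ∈ S) :
    N.restrictScalars k ⊓ isoComp M D.1 ≤ (genIn k A R M S N).restrictScalars k :=
  fun _ hx => Submodule.subset_span (Set.mem_iUnion₂.mpr ⟨D, hD, hx⟩)

omit [TameAct.IsHopfMod k A R M] [HopfRep.Comod k A R] in
theorem genIn_genIn (S : Set (SimpSub k A)) (N : Submodule R M) :
    genIn k A R M S (genIn k A R M S N) = genIn k A R M S N := by
  refine le_antisymm (genIn_le k A S _) (Submodule.span_le.mpr fun x hx => ?_)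
  obtain ⟨D, hD, hx⟩ := Set.mem_iUnion₂.mp hx
  exact inf_le_genIn k A _ hD ⟨inf_le_genIn k A N hD hx, hx.2⟩

omit [TameAct.IsHopfMod k A R M] [HopfRep.Comod k A R] in
theorem hilbAt_genIn {S : Set (SimpSub k A)} (N : Submodule R M) {D : SimpSub k A} (hD : D ∈ S) :
    hilbAt M ((genIn k A R M S N).restrictScalars k) D = hilbAt M (N.restrictScalars k) D := by
  have he : (genIn k A R M S N).restrictScalars k ⊓ isoComp M D.1 = N.restrictScalars k ⊓ isoComp M D.1 :=
    le_antisymm (inf_le_inf_right _ fun x hx => genIn_le k A S N hx) (le_inf (inf_le_genIn k A N hD) inf_le_right)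
  rw [hilbAt, hilbAt, he]

end Mod

section Weights

variable {h : SimpSub k A → ℕ} {θ : SimpSub k A → ℚ}
  (hfd : ∀ D : SimpSub k A, Module.Finite k ↥(isoComp M D.1) ∧ Module.finrank k ↥(isoComp M D.1) = h D)

include hfd in
theorem hilbAt_le (N : Submodule k M) (D : SimpSub k A) : hilbAt M N D ≤ h D := by
  haveI := (hfd D).1
  rw [← (hfd D).2]
  exact Submodule.finrank_mono inf_le_right

include hfd in
theorem hilbAt_mono {N N' : Submodule k M} (hle : N ≤ N') (D : SimpSub k A) :
    hilbAt M N D ≤ hilbAt M N' D := by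
  haveI := (hfd D).1
  haveI : Module.Finite k ↥(N' ⊓ isoComp M D.1) := Submodule.finiteDimensional_of_le inf_le_right
  exact Submodule.finrank_mono (inf_le_inf_right _ hle)

include hfd in
theorem isoComp_le_of_hilbAt {N : Submodule k M} {D : SimpSub k A} (he : hilbAt M N D = h D) :
    isoComp M D.1 ≤ N := by
  haveI := (hfd D).1
  have := Submodule.eq_of_le_of_finrank_eq (inf_le_right (a := N)) (he.trans (hfd D).2.symm)
  exact this ▸ inf_le_left

include hfd in
theorem hilbAt_top (D : SimpSub k A) : hilbAt M ⊤ D = h D := by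
  rw [hilbAt, top_inf_eq, (hfd D).2]

include hfd in
theorem hilbAt_ne_zero {N : Submodule k M} {D : SimpSub k A} (hne : N ⊓ isoComp M D.1 ≠ ⊥) :
    hilbAt M N D ≠ 0 := by
  haveI := (hfd D).1
  haveI : Module.Finite k ↥(N ⊓ isoComp M D.1) := Submodule.finiteDimensional_of_le inf_le_right
  exact fun h0 => hne (Submodule.finrank_eq_zero.mp h0)

include hfd in
theorem summable_weight (hsum : Summable fun D => (θ D : ℝ) * (h D : ℝ)) (N : Submodule k M) :
    Summable fun D => (θ D : ℝ) * (hilbAt M N D : ℝ) := by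
  refine Summable.of_norm_bounded hsum.abs fun D => ?_
  rw [Real.norm_eq_abs, abs_mul, abs_mul, Nat.abs_cast, Nat.abs_cast]
  exact mul_le_mul_of_nonneg_left (by exact_mod_cast hilbAt_le hfd N D) (abs_nonneg _)

include hfd in
theorem theta_top (hsum : HasSum (fun D => (θ D : ℝ) * (h D : ℝ)) 0) : theta M θ ⊤ = 0 := by
  rw [theta, ← hsum.tsum_eq]
  exact tsum_congr fun D => by rw [hilbAt_top hfd]

include hfd in
/-- Shrinking a subspace without touching the negative part lowers the weight. -/
theorem theta_le (hsum : Summable fun D => (θ D : ℝ) * (h D : ℝ)) {N N' : Submodule k M} (hle : N ≤ N')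
    (heq : ∀ D, θ D < 0 → hilbAt M N D = hilbAt M N' D) : theta M θ N ≤ theta M θ N' := by
  refine Summable.tsum_le_tsum (fun D => ?_) (summable_weight hfd hsum N) (summable_weight hfd hsum N')
  rcases lt_or_ge (θ D) 0 with hD | hD
  · rw [heq D hD]
  · exact mul_le_mul_of_nonneg_left (by exact_mod_cast hilbAt_mono hfd hle D) (by exact_mod_cast hD)

include hfd in
theorem hilbAt_eq_of_theta_le (hsum : Summable fun D => (θ D : ℝ) * (h D : ℝ)) {N N' : Submodule k M}
    (hle : N ≤ N') (heq : ∀ D, θ D < 0 → hilbAt M N D = hilbAt M N' D)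
    (hth : theta M θ N' ≤ theta M θ N) {D : SimpSub k A} (hD : θ D ≠ 0) :
    hilbAt M N D = hilbAt M N' D := by
  rcases lt_or_gt_of_ne hD with hD | hD
  · exact heq D hD
  · by_contra hne
    have hlt : hilbAt M N D < hilbAt M N' D := lt_of_le_of_ne (hilbAt_mono hfd hle D) hne
    refine not_lt.mpr hth (Summable.tsum_lt_tsum (i := D) (fun E => ?_) ?_ (summable_weight hfd hsum N)
      (summable_weight hfd hsum N'))
    · rcases lt_or_ge (θ E) 0 with hE | hE
      · show _ ≤ _
        simp only [heq E hE, le_refl]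
      · show _ ≤ _
        exact mul_le_mul_of_nonneg_left (Nat.cast_le.mpr (hilbAt_mono hfd hle E)) (Rat.cast_nonneg.mpr hE)
    · exact mul_lt_mul_of_pos_left (by exact_mod_cast hlt) (by exact_mod_cast hD)

include hfd in
/-- A subcomodule with no negative part but a nonzero piece of nonzero weight has positive weight. -/
theorem theta_pos (hsum : Summable fun D => (θ D : ℝ) * (h D : ℝ))
    (htop : (⨆ D : SimpSub k A, isoComp M D.1) = ⊤) (hθ : ∀ D, h D ≠ 0 → θ D ≠ 0)
    {N : Submodule k M} (hN : HopfRep.IsSubcomod (k := k) (A := A) N) (hne : N ≠ ⊥)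
    (hneg : ∀ D, θ D < 0 → hilbAt M N D = 0) : 0 < theta M θ N := by
  obtain ⟨D, hD⟩ := exists_inf_isoComp_ne_bot htop hN hne
  have hD0 := hilbAt_ne_zero hfd hD
  have hh : h D ≠ 0 := fun h0 => hD0 (Nat.eq_zero_of_le_zero (h0 ▸ hilbAt_le hfd N D))
  have hnn : ∀ E, 0 ≤ (θ E : ℝ) * (hilbAt M N E : ℝ) := fun E => by
    rcases lt_or_ge (θ E) 0 with hE | hE
    · simp [hneg E hE]
    · exact mul_nonneg (by exact_mod_cast hE) (Nat.cast_nonneg _)
  refine (summable_weight hfd hsum N).tsum_pos hnn D (mul_pos ?_ (by exact_mod_cast Nat.pos_of_ne_zero hD0))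
  rcases lt_or_gt_of_ne (hθ D hh) with hlt | hgt
  · exact absurd (hneg D hlt) hD0
  · exact_mod_cast hgt

end Weights

end Groth.Agent.GHConst
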